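import Mathlib

/-!
Invariant derivations of a commutative bialgebra attached to point derivations at the counit.
-/

set_option autoImplicit false
set_option linter.unusedSectionVars false
set_option linter.style.haveILetI false
open TensorProduct

namespace Groth.Agent.FiniteGrp.Deriv

variable {R A : Type*} [CommRing R] [CommRing A] [Bialgebra R A]

/-- point derivation at the counit -/
def IsPt (ξ : A →ₗ[R] R) : Prop :=
  ∀ a b : A, ξ (a * b) = Bialgebra.counitAlgHom R A a * ξ b + Bialgebra.counitAlgHom R A b * ξ a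

/-- `a ⊗ b ↦ ξ b • a` -/
noncomputable def slice (ξ : A →ₗ[R] R) : A ⊗[R] A →ₗ[R] A :=
  (TensorProduct.rid R A).toLinearMap ∘ₗ ξ.lTensor A

theorem slice_tmul (ξ : A →ₗ[R] R) (a b : A) : slice ξ (a ⊗ₜ b) = ξ b • a := by
  simp [slice]

/-- `a ⊗ b ↦ ε b • a` as an algebra map -/
noncomputable def sliceε : A ⊗[R] A →ₐ[R] A :=
  (Algebra.TensorProduct.rid R R A).toAlgHom.comp
    (Algebra.TensorProduct.map (AlgHom.id R A) (Bialgebra.counitAlgHom R A))

theorem sliceε_tmul (a b : A) : sliceε (R := R) (a ⊗ₜ b) = Bialgebra.counitAlgHom R A b • a := by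
  simp [sliceε]

theorem slice_mul (ξ : A →ₗ[R] R) (h : IsPt ξ) (u v : A ⊗[R] A) :
    slice ξ (u * v) = sliceε u * slice ξ v + sliceε v * slice ξ u := by
  induction u using TensorProduct.induction_on with
  | zero => simp
  | add u₁ u₂ h₁ h₂ => rw [add_mul, map_add, h₁, h₂, map_add, map_add]; ring
  | tmul a b =>
    induction v using TensorProduct.induction_on with
    | zero => simp
    | add v₁ v₂ h₁ h₂ => rw [mul_add, map_add, h₁, h₂, map_add, map_add]; ring
    | tmul c d =>
      rw [Algebra.TensorProduct.tmul_mul_tmul, slice_tmul, slice_tmul, slice_tmul, sliceε_tmul,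
        sliceε_tmul, h]
      simp only [Algebra.smul_def, map_add, map_mul]
      ring

theorem sliceε_comul (a : A) : sliceε (Bialgebra.comulAlgHom R A a) = a := by
  have h : ∀ u : A ⊗[R] A, sliceε u =
      TensorProduct.rid R A ((Coalgebra.counit (R := R) (A := A)).lTensor A u) := by
    intro u
    induction u using TensorProduct.induction_on with
    | zero => simp
    | add u v hu hv => rw [map_add, hu, hv]; simp
    | tmul x y => rw [sliceε_tmul]; simp
  rw [h, Bialgebra.comulAlgHom_apply, Coalgebra.lTensor_counit_comul]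
  simp

/-- the invariant derivation of a point derivation -/
noncomputable def deriv (ξ : A →ₗ[R] R) (h : IsPt ξ) : Derivation R A A :=
  Derivation.mk' ((slice ξ) ∘ₗ (Coalgebra.comul (R := R) (A := A))) (fun a b => by
    have := slice_mul ξ h (Bialgebra.comulAlgHom R A a) (Bialgebra.comulAlgHom R A b)
    rw [sliceε_comul, sliceε_comul, ← map_mul] at this
    simpa using this)

theorem deriv_apply (ξ : A →ₗ[R] R) (h : IsPt ξ) (a : A) :
    deriv ξ h a = slice ξ (Coalgebra.comul (R := R) a) := rfl

theorem counit_deriv (ξ : A →ₗ[R] R) (h : IsPt ξ) (a : A) :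
    Bialgebra.counitAlgHom R A (deriv ξ h a) = ξ a := by
  have key : ∀ u : A ⊗[R] A, Bialgebra.counitAlgHom R A (slice ξ u) =
      ξ (TensorProduct.lid R A ((Coalgebra.counit (R := R) (A := A)).rTensor A u)) := by
    intro u
    induction u using TensorProduct.induction_on with
    | zero => simp
    | add u v hu hv => simp only [map_add, hu, hv]
    | tmul x y => simp [slice_tmul, mul_comm]
  rw [deriv_apply, key, Coalgebra.rTensor_counit_comul]
  simp

section Perfect

variable {k B : Type*} [Field k] [CommRing B] [Bialgebra k B] (p : ℕ) [Fact p.Prime] [CharP k p]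
  [PerfectRing k p]

/-- elements killed by the `p ^ e`-th power -/
def frobKer (e : ℕ) : Submodule k B where
  carrier := {a | a ^ p ^ e = 0}
  add_mem' {a b} ha hb := by
    nontriviality B
    haveI : CharP B p := (RingHom.charP_iff (algebraMap k B) (algebraMap k B).injective p).mp ‹_›
    simp only [Set.mem_ofPred_eq] at *
    rw [add_pow_char_pow, ha, hb, add_zero]
  zero_mem' := zero_pow (pow_ne_zero _ (Fact.out : p.Prime).ne_zero)
  smul_mem' c a ha := by
    simp only [Set.mem_ofPred_eq] at *
    rw [smul_pow, ha, smul_zero]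

theorem mem_frobKer {e : ℕ} {a : B} : a ∈ frobKer (k := k) p e ↔ a ^ p ^ e = 0 := Iff.rfl

theorem deriv_mem_frobKer (ξ : B →ₗ[k] k) (h : IsPt ξ) (e : ℕ)
    (hξ : ∀ a ∈ frobKer (k := k) p e, ξ a = 0) {b : B} (hb : b ∈ frobKer (k := k) p e) :
    deriv ξ h b ∈ frobKer (k := k) p e := by
  classical
  nontriviality B
  haveI : CharP B p := (RingHom.charP_iff (algebraMap k B) (algebraMap k B).injective p).mp ‹_›
  haveI : Nontrivial (B ⊗[k] B) :=
    ((Algebra.TensorProduct.lmul' k (S := B)).toRingHom).domain_nontrivial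
  haveI : CharP (B ⊗[k] B) p :=
    (RingHom.charP_iff (algebraMap k (B ⊗[k] B)) (algebraMap k _).injective p).mp ‹_›
  set K := frobKer (B := B) (k := k) p e
  obtain ⟨W, hW⟩ := K.exists_isCompl
  let w := Module.Basis.ofVectorSpace k W
  set ιW := Module.Basis.ofVectorSpaceIndex k W
  have hind : LinearIndependent k (fun i : ιW => (w i : B) ^ p ^ e) := by
    rw [linearIndependent_iff']
    intro s g hg i hi
    let g' : ιW → k := fun j => (iterateFrobeniusEquiv k p e).symm (g j)
    have hg' : ∀ j, g' j ^ p ^ e = g j := fun j => by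
      rw [← iterateFrobeniusEquiv_def, RingEquiv.apply_symm_apply]
    have hmem : (∑ j ∈ s, g' j • (w j : B)) ∈ K := by
      rw [mem_frobKer, sum_pow_char_pow]
      simp only [smul_pow, hg']
      exact hg
    have hmem' : (∑ j ∈ s, g' j • (w j : B)) ∈ W :=
      sum_mem fun j _ => W.smul_mem _ (w j).2
    have h0 : (∑ j ∈ s, g' j • w j) = 0 := by
      apply Subtype.ext
      have := Submodule.disjoint_def.mp hW.disjoint _ hmem hmem'
      simpa using this
    have := linearIndependent_iff'.mp w.linearIndependent s g' h0 i hi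
    rw [← hg', this, zero_pow (pow_ne_zero _ (Fact.out : p.Prime).ne_zero)]
  have hdec : ∀ u : B ⊗[k] B, ∃ (c : ιW →₀ B) (r : B ⊗[k] B),
      u = c.sum (fun j a => a ⊗ₜ (w j : B)) + r ∧ r ^ p ^ e = 0 ∧ slice ξ r = 0 := by
    intro u
    induction u using TensorProduct.induction_on with
    | zero => exact ⟨0, 0, by simp, zero_pow (pow_ne_zero _ (Fact.out : p.Prime).ne_zero), map_zero _⟩
    | add u v hu hv =>
      obtain ⟨c, r, rfl, hr, hr'⟩ := hu
      obtain ⟨c', r', rfl, hs, hs'⟩ := hv
      refine ⟨c + c', r + r', ?_, by rw [add_pow_char_pow, hr, hs, add_zero],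
        by rw [map_add, hr', hs', add_zero]⟩
      rw [Finsupp.sum_add_index' (by simp) (by intros; rw [add_tmul])]
      abel
    | tmul x y =>
      obtain ⟨y₁, hy₁, y₂, hy₂, rfl⟩ := Submodule.mem_sup.mp
        (hW.sup_eq_top.symm ▸ Submodule.mem_top : y ∈ K ⊔ W)
      refine ⟨(w.repr ⟨y₂, hy₂⟩).mapRange (fun c => c • x) (zero_smul _ _), x ⊗ₜ y₁, ?_, ?_, ?_⟩
      · rw [Finsupp.sum_mapRange_index (by simp), tmul_add, add_comm]
        congr 1
        have h := w.linearCombination_repr ⟨y₂, hy₂⟩
        rw [Finsupp.linearCombination_apply] at h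
        have h' := congrArg (fun z : W => x ⊗ₜ[k] (z : B)) h
        simp only [Finsupp.sum, AddSubmonoidClass.coe_finsetSum, Submodule.coe_smul, tmul_sum] at h'
        simp only [Finsupp.sum, smul_tmul]
        exact h'.symm
      · rw [Algebra.TensorProduct.tmul_pow, (mem_frobKer p).mp hy₁, tmul_zero]
      · rw [slice_tmul, hξ _ hy₁, zero_smul]
  obtain ⟨c, r, hu, hr, hr'⟩ := hdec (Coalgebra.comul (R := k) b)
  have hz : (Coalgebra.comul (R := k) b) ^ p ^ e = 0 := by
    rw [← Bialgebra.comulAlgHom_apply, ← map_pow, (mem_frobKer p).mp hb, map_zero]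
  rw [hu, add_pow_char_pow, hr, add_zero, Finsupp.sum, sum_pow_char_pow] at hz
  simp only [Algebra.TensorProduct.tmul_pow] at hz
  have hc : ∀ j ∈ c.support, (c j) ^ p ^ e = 0 := by
    intro j hj
    obtain ⟨g, hg⟩ := LinearMap.exists_leftInverse_of_injective
      (Finsupp.linearCombination k (fun i : ιW => (w i : B) ^ p ^ e))
      (LinearMap.ker_eq_bot.mpr hind.finsuppLinearCombination_injective)
    have hg' : ∀ i, g ((w i : B) ^ p ^ e) = Finsupp.single i 1 := fun i => by
      have := LinearMap.congr_fun hg (Finsupp.single i 1)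
      simpa using this
    have := congrArg (slice (Finsupp.lapply j ∘ₗ g)) hz
    rw [map_zero, map_sum, Finset.sum_eq_single j] at this
    · simpa [slice_tmul, hg'] using this
    · intro i _ hij
      simp [slice_tmul, hg', Finsupp.single_eq_of_ne hij.symm]
    · exact fun hn => absurd hj hn
  rw [deriv_apply, hu, map_add, hr', add_zero, Finsupp.sum, map_sum]
  refine sum_mem fun j hj => ?_
  rw [slice_tmul]
  exact K.smul_mem _ ((mem_frobKer p).mpr (hc j hj))

end Perfect

end Groth.Agent.FiniteGrp.Deriv
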