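import Mathlib

/-!
Monomials in elements with dual derivations are linearly independent over constants.
-/

set_option autoImplicit false
set_option linter.unusedSectionVars false
open scoped BigOperators

namespace Groth.Agent.FiniteGrp.Monomials

variable {R A : Type*} [CommRing R] [CommRing A] [Algebra R A] {ι : Type*} [DecidableEq ι]

/-- iterated derivation along a list -/
def iter (D : ι → Derivation R A A) : List ι → A → A
  | [], a => a
  | i :: L, a => iter D L (D i a)

theorem iter_add (D : ι → Derivation R A A) (L : List ι) (a b : A) :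
    iter D L (a + b) = iter D L a + iter D L b := by
  induction L generalizing a b with
  | nil => rfl
  | cons i L ih => simp [iter, ih]

theorem iter_nsmul (D : ι → Derivation R A A) (L : List ι) (n : ℕ) (a : A) :
    iter D L (n • a) = n • iter D L a := by
  induction L generalizing a with
  | nil => rfl
  | cons i L ih => simp [iter, ← ih]

theorem iter_const_mul (D : ι → Derivation R A A) (L : List ι) (b : A) (hb : ∀ i, D i b = 0)
    (a : A) : iter D L (b * a) = b * iter D L a := by
  induction L generalizing a with
  | nil => rfl
  | cons i L ih => simp [iter, hb, ih]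

theorem iter_sum {κ : Type*} (D : ι → Derivation R A A) (L : List ι) (s : Finset κ) (a : κ → A) :
    iter D L (∑ j ∈ s, a j) = ∑ j ∈ s, iter D L (a j) :=
  map_sum (AddMonoidHom.mk' (iter D L) (iter_add D L)) a s

theorem deriv_mem_pow (D : Derivation R A A) (J : Ideal A) :
    ∀ (m : ℕ), ∀ a ∈ J ^ (m + 1), D a ∈ J ^ m := by
  intro m
  induction m with
  | zero => simp
  | succ m ih =>
    intro a ha
    rw [pow_succ (n := m + 1)] at ha
    induction ha using Submodule.mul_induction_on' with
    | mem_mul_mem x hx y hy =>
      rw [D.leibniz, smul_eq_mul, smul_eq_mul]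
      refine add_mem (Ideal.mul_mem_right _ _ hx) ?_
      rw [pow_succ, mul_comm (J ^ m)]
      exact Ideal.mul_mem_mul hy (ih x hx)
    | add x _ y _ hx hy => rw [map_add]; exact add_mem hx hy

theorem iter_mem_pow (D : ι → Derivation R A A) (J : Ideal A) :
    ∀ (L : List ι) (m : ℕ), ∀ a ∈ J ^ (m + L.length), iter D L a ∈ J ^ m := by
  intro L
  induction L with
  | nil => simp [iter]
  | cons i L ih =>
    intro m a ha
    exact ih m _ (deriv_mem_pow (D i) J (m + L.length) a ha)

variable (x : ι → A) (D : ι → Derivation R A A) (J : Ideal A)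

theorem prod_mem_pow (hx : ∀ i, x i ∈ J) (s : Multiset ι) :
    (s.map x).prod ∈ J ^ Multiset.card s := by
  induction s using Multiset.induction_on with
  | empty => simp
  | cons a s ih =>
    rw [Multiset.map_cons, Multiset.prod_cons, Multiset.card_cons, pow_succ']
    exact Ideal.mul_mem_mul (hx a) ih

theorem deriv_prod (hx : ∀ i, x i ∈ J) (hD : ∀ i j, D i (x j) - (if i = j then 1 else 0) ∈ J)
    (i : ι) (s : Multiset ι) :
    D i (s.map x).prod - s.count i • ((s.erase i).map x).prod ∈ J ^ Multiset.card s := by
  induction s using Multiset.induction_on with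
  | empty => simp
  | cons a s ih =>
    have h1 : (D i (x a) - (if i = a then 1 else 0)) * (s.map x).prod ∈
        J ^ (Multiset.card s + 1) := by
      rw [pow_succ']; exact Ideal.mul_mem_mul (hD i a) (prod_mem_pow x J hx s)
    have h2 : x a * (D i (s.map x).prod - s.count i • ((s.erase i).map x).prod) ∈
        J ^ (Multiset.card s + 1) := by
      rw [pow_succ']; exact Ideal.mul_mem_mul (hx a) ih
    have := add_mem h1 h2
    rw [Multiset.card_cons]
    convert this using 1
    rw [Multiset.map_cons, Multiset.prod_cons, (D i).leibniz, smul_eq_mul, smul_eq_mul]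
    by_cases h : i = a
    · subst h
      by_cases hi : i ∈ s
      · have : (s.map x).prod = x i * ((s.erase i).map x).prod := by
          rw [← Multiset.prod_cons, ← Multiset.map_cons x i, Multiset.cons_erase hi]
        simp only [Multiset.count_cons_self, Multiset.erase_cons_head, nsmul_eq_mul,
          Nat.cast_add, Nat.cast_one]
        simp only [if_true]
        linear_combination (-(s.count i : A)) * this
      · simp [Multiset.count_eq_zero_of_notMem hi]
        ring
    · rw [Multiset.count_cons_of_ne h, Multiset.erase_cons_tail s (Ne.symm h), Multiset.map_cons,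
        Multiset.prod_cons, if_neg h]
      simp only [nsmul_eq_mul]
      ring

theorem iter_prod (hJ : J.IsPrime) (hx : ∀ i, x i ∈ J)
    (hD : ∀ i j, D i (x j) - (if i = j then 1 else 0) ∈ J) :
    ∀ (L : List ι) (s : Multiset ι), Multiset.card s = L.length →
      ((↑L ≠ s → iter D L (s.map x).prod ∈ J) ∧
       (↑L = s → (∀ i ∈ s, ∀ n, 0 < n → n ≤ s.count i → ((n : ℕ) : A) ∉ J) →
          iter D L (s.map x).prod ∉ J)) := by
  intro L
  induction L with
  | nil =>
    intro s hs
    have : s = 0 := Multiset.card_eq_zero.mp hs
    subst this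
    refine ⟨fun h => absurd rfl h, fun _ _ => ?_⟩
    simpa [iter] using hJ.ne_top ∘ J.eq_top_iff_one.mpr
  | cons i L ih =>
    intro s hs
    simp only [List.length_cons] at hs
    have key : iter D (i :: L) (s.map x).prod -
        (s.count i : A) * iter D L ((s.erase i).map x).prod ∈ J := by
      have h := iter_mem_pow D J L 1 _ (by rw [add_comm, ← hs]; exact deriv_prod x D J hx hD i s)
      rw [pow_one] at h
      convert h using 1
      rw [sub_eq_iff_eq_add, ← nsmul_eq_mul, ← iter_nsmul, ← iter_add, sub_add_cancel]
      rfl
    by_cases hi : i ∈ s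
    · have hc : Multiset.card (s.erase i) = L.length := by
        rw [Multiset.card_erase_of_mem hi, hs]; simp
      obtain ⟨ih1, ih2⟩ := ih _ hc
      constructor
      · intro hne
        have : (↑L : Multiset ι) ≠ s.erase i := fun e => hne (by
          rw [← Multiset.cons_coe, e, Multiset.cons_erase hi])
        have h := add_mem key (J.mul_mem_left (s.count i : A) (ih1 this))
        simpa using h
      · intro heq hn hmem
        have hL : (↑L : Multiset ι) = s.erase i := by
          rw [← heq, ← Multiset.cons_coe, Multiset.erase_cons_head]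
        have h1 : (s.count i : A) * iter D L ((s.erase i).map x).prod ∈ J := by
          have := sub_mem hmem key
          simpa using this
        rcases hJ.mem_or_mem h1 with h | h
        · exact hn i hi _ (Multiset.count_pos.mpr hi) le_rfl h
        · exact ih2 hL (fun j hj n hn0 hn1 => hn j (Multiset.mem_of_mem_erase hj) n hn0
            (hn1.trans (Multiset.count_le_of_le j (Multiset.erase_le i s)))) h
    · constructor
      · intro _
        simpa [Multiset.count_eq_zero_of_notMem hi] using key
      · intro heq
        exact absurd (heq ▸ List.mem_cons_self) hi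

/-- monomial of a bounded exponent vector -/
def mon {d N : ℕ} (x : Fin d → A) (α : Fin d → Fin N) : A := ∏ i, x i ^ (α i : ℕ)

/-- the multiset of a bounded exponent vector -/
noncomputable def toMS {d N : ℕ} (α : Fin d → Fin N) : Multiset (Fin d) :=
  ∑ i, (α i : ℕ) • {i}

theorem count_toMS {d N : ℕ} (α : Fin d → Fin N) (i : Fin d) : (toMS α).count i = α i := by
  simp [toMS, Multiset.count_sum', Multiset.count_singleton]

theorem toMS_injective {d N : ℕ} : Function.Injective (toMS : (Fin d → Fin N) → Multiset (Fin d)) := by
  intro α β h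
  funext i
  exact Fin.ext (by rw [← count_toMS α, ← count_toMS β, h])

theorem mon_eq {d N : ℕ} (x : Fin d → A) (α : Fin d → Fin N) :
    mon x α = ((toMS α).map x).prod := by
  simp only [mon, toMS]
  rw [← Multiset.coe_mapAddMonoidHom, map_sum, Multiset.prod_sum]
  simp [Multiset.map_nsmul, Multiset.prod_nsmul]

/-- Elements with dual derivations: monomials with exponents `< N` are independent over constants,
as soon as the integers `< N` are invertible. -/
theorem eq_zero_of_sum_eq_zero [IsLocalRing A] {d N : ℕ} (x : Fin d → A)
    (D : Fin d → Derivation R A A) (hx : ∀ i, x i ∈ IsLocalRing.maximalIdeal A)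
    (hD : ∀ i j, D i (x j) - (if i = j then 1 else 0) ∈ IsLocalRing.maximalIdeal A)
    (hN : ∀ n : ℕ, 0 < n → n < N → (n : A) ∉ IsLocalRing.maximalIdeal A)
    (b : (Fin d → Fin N) → A) (hb : ∀ i α, D i (b α) = 0)
    (h : ∑ α, b α * mon x α = 0) : b = 0 := by
  classical
  set J := IsLocalRing.maximalIdeal A
  let M : Matrix (Fin d → Fin N) (Fin d → Fin N) A :=
    fun β α => iter D (toMS β).toList (mon x α)
  have hMb : M.mulVec b = 0 := by
    funext β
    have h0 := congrArg (iter D (toMS β).toList) h
    rw [iter_sum] at h0
    simp only [iter_const_mul D _ _ (fun i => hb i _)] at h0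
    have hz : iter D (toMS β).toList (0 : A) = 0 := by
      simpa using iter_nsmul D (toMS β).toList 0 (0 : A)
    rw [hz] at h0
    simpa [Matrix.mulVec, dotProduct, M, mul_comm] using h0
  have hdet : IsUnit M.det := by
    by_contra hnu
    have h0 : (M.map (IsLocalRing.residue A)).det = 0 := by
      rw [← RingHom.mapMatrix_apply, ← RingHom.map_det, IsLocalRing.residue_eq_zero_iff]
      exact hnu
    obtain ⟨v, hv, hv0⟩ := Matrix.exists_mulVec_eq_zero_iff.mpr h0
    obtain ⟨α₀, hα₀⟩ := Function.ne_iff.mp hv
    have hne : (Finset.univ.filter fun α => v α ≠ 0).Nonempty := ⟨α₀, by simpa using hα₀⟩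
    obtain ⟨β, hβ, hmin⟩ := Finset.exists_min_image _ (fun α => Multiset.card (toMS α)) hne
    simp only [Finset.mem_filter, Finset.mem_univ, true_and] at hβ hmin
    have hz : ∀ α, α ≠ β → IsLocalRing.residue A (M β α) * v α = 0 := by
      intro α hne
      by_cases hv : v α = 0
      · simp [hv]
      · rw [IsLocalRing.residue_eq_zero_iff _ |>.mpr ?_, zero_mul]
        have hle := hmin α hv
        rcases lt_or_eq_of_le hle with hlt | heq
        · simp only [M, mon_eq]
          have hmem : ((toMS α).map x).prod ∈ J ^ (1 + (toMS β).toList.length) :=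
            Ideal.pow_le_pow_right (by rw [Multiset.length_toList]; omega) (prod_mem_pow x J hx (toMS α))
          have h1 := iter_mem_pow D J (toMS β).toList 1 _ hmem
          rwa [pow_one] at h1
        · simp only [M, mon_eq]
          refine (iter_prod x D J inferInstance hx hD _ _ (by simpa using heq.symm)).1 ?_
          simpa using fun e => hne (toMS_injective e.symm)
    have hsum := congrFun hv0 β
    simp only [Matrix.mulVec, dotProduct, Matrix.map_apply, Pi.zero_apply] at hsum
    rw [Finset.sum_eq_single β (fun α _ hne => hz α hne) (by simp)] at hsum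
    have hu : IsLocalRing.residue A (M β β) ≠ 0 := by
      rw [Ne, IsLocalRing.residue_eq_zero_iff]
      simp only [M, mon_eq]
      refine (iter_prod x D J inferInstance hx hD _ _ (by simp)).2 (by simp) ?_
      intro i _ n hn hn'
      exact hN n hn (lt_of_le_of_lt hn' (by rw [count_toMS]; exact (β i).isLt))
    exact (mul_ne_zero hu hβ) hsum
  have h1 := congrArg (M⁻¹.mulVec) hMb
  rwa [Matrix.mulVec_mulVec, Matrix.nonsing_inv_mul M hdet, Matrix.one_mulVec,
    Matrix.mulVec_zero] at h1

/-- Spanning: if `x` generate the nilpotent ideal `J` with complement the constants, then bounded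
monomials span over a subalgebra containing `x i ^ p`. -/
theorem span_mon_eq_top (S : Subalgebra R A) (J : Ideal A) {d p : ℕ} (hp : 0 < p) (x : Fin d → A)
    (hJ : IsNilpotent J) (hxJ : ∀ i, x i ∈ J) (hgen : J ≤ Ideal.span (Set.range x))
    (hconst : ∀ a : A, ∃ c : R, a - algebraMap R A c ∈ J)
    (hxp : ∀ i, x i ^ p ∈ S) :
    Submodule.span S (Set.range (fun α : Fin d → Fin p => mon x α)) = ⊤ := by
  set M := Submodule.span S (Set.range (fun α : Fin d → Fin p => mon x α))
  have h1 : (1 : A) ∈ M :=
    Submodule.subset_span ⟨fun _ => ⟨0, hp⟩, by simp [mon]⟩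
  have hmul : ∀ i, ∀ a ∈ M, x i * a ∈ M := by
    intro i a ha
    induction ha using Submodule.span_induction with
    | mem y hy =>
      obtain ⟨α, rfl⟩ := hy
      by_cases h : (α i : ℕ) + 1 < p
      · refine Submodule.subset_span ⟨Function.update α i ⟨(α i : ℕ) + 1, h⟩, ?_⟩
        simp only [mon]
        rw [← Finset.mul_prod_erase Finset.univ _ (Finset.mem_univ i),
          ← Finset.mul_prod_erase Finset.univ (fun j => x j ^ (α j : ℕ)) (Finset.mem_univ i),
          Finset.prod_congr rfl (g := fun j => x j ^ (α j : ℕ))
            (fun j hj => by rw [Function.update_of_ne (Finset.ne_of_mem_erase hj)])]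
        simp [pow_succ]; ring
      · have hp' : (α i : ℕ) + 1 = p := by have := (α i).isLt; omega
        have : x i * mon x α =
            (⟨x i ^ p, hxp i⟩ : S) • mon x (Function.update α i ⟨0, hp⟩) := by
          rw [Subalgebra.smul_def, smul_eq_mul]
          simp only [mon]
          rw [← Finset.mul_prod_erase Finset.univ _ (Finset.mem_univ i),
            ← Finset.mul_prod_erase Finset.univ (fun j => x j ^ (Function.update α i ⟨0, hp⟩ j : ℕ))
              (Finset.mem_univ i),
            Finset.prod_congr rfl (g := fun j => x j ^ (α j : ℕ))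
              (s₁ := Finset.univ.erase i) (f := fun j => x j ^ (Function.update α i ⟨0, hp⟩ j : ℕ))
              (fun j hj => by rw [Function.update_of_ne (Finset.ne_of_mem_erase hj)])]
          simp only [Function.update_self, pow_zero, one_mul]
          conv_rhs => arg 1; rw [show x i ^ p = x i ^ ((α i : ℕ) + 1) by rw [hp']]
          rw [pow_succ]; ring
        rw [this]
        exact M.smul_mem _ (Submodule.subset_span ⟨_, rfl⟩)
    | zero => simp
    | add y z _ _ hy hz => rw [mul_add]; exact add_mem hy hz
    | smul c y _ hy => rw [mul_smul_comm]; exact M.smul_mem c hy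
  have key : ∀ n : ℕ, ∀ a : A, ∃ m ∈ M, a - m ∈ J ^ n := by
    intro n
    induction n with
    | zero => exact fun a => ⟨0, zero_mem _, by simp⟩
    | succ n ih =>
      intro a
      obtain ⟨c, hc⟩ := hconst a
      obtain ⟨w, hw⟩ := Ideal.mem_span_range_iff_exists_fun.mp (hgen hc)
      choose m hm hm' using fun i => ih (w i)
      refine ⟨algebraMap R A c + ∑ i, x i * m i, add_mem ?_ (sum_mem fun i _ => hmul i _ (hm i)), ?_⟩
      · have := M.smul_mem (algebraMap R S c) h1
        simpa [Subalgebra.smul_def, Algebra.algebraMap_eq_smul_one] using this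
      · rw [sub_add_eq_sub_sub, ← hw, ← Finset.sum_sub_distrib]
        refine sum_mem fun i _ => ?_
        rw [mul_comm (w i), ← mul_sub, pow_succ, mul_comm (J ^ n)]
        exact Ideal.mul_mem_mul (hxJ i) (hm' i)
  obtain ⟨n, hn⟩ := hJ
  refine eq_top_iff.mpr fun a _ => ?_
  obtain ⟨m, hm, hm'⟩ := key n a
  rw [hn, Ideal.zero_eq_bot, Ideal.mem_bot, sub_eq_zero] at hm'
  exact hm' ▸ hm

end Groth.Agent.FiniteGrp.Monomials
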