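import Mathlib
import Groth.Agent.FiniteGrp.Monomials
import Groth.Agent.FiniteGrp.Deriv

/-!
The local factor at the identity of a finite group scheme: its rank is a power of the
characteristic exponent.
-/

set_option autoImplicit false
set_option linter.unusedSectionVars false
set_option linter.style.haveILetI false
open TensorProduct

namespace Groth.Agent.FiniteGrp.Local

open Groth.Agent.FiniteGrp

variable {k A : Type*} [Field k] [CommRing A] [Bialgebra k A] [Module.Finite k A]

theorem deriv_idem (D : Derivation k A A) {e : A} (he : IsIdempotentElem e) : D e = 0 := by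
  have h : D e = e * D e + e * D e := by
    conv_lhs => rw [← he.eq]
    rw [D.leibniz, smul_eq_mul]
  have h2 : e * D e = 0 := by
    have := congrArg (e * ·) h
    simp only [mul_add, ← mul_assoc, he.eq] at this
    linear_combination -this
  rw [h, h2, add_zero]

/-- A system of cotangent generators with dual derivations on a local augmented quotient. -/
theorem exists_system (J : Ideal A) (hJ : ∀ a ∈ J, (Bialgebra.counitAlgHom k A) a = 0)
    (hunit : ∀ a, (Bialgebra.counitAlgHom k A) a ≠ 0 → IsUnit (Ideal.Quotient.mk J a))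
    (hstable : ∀ (ξ : A →ₗ[k] k) (h : Deriv.IsPt ξ), (∀ a ∈ J, ξ a = 0) →
      ∀ a ∈ J, Deriv.deriv ξ h a ∈ J) :
    ∃ (_ : IsLocalRing (A ⧸ J)) (d : ℕ) (x : Fin d → A ⧸ J)
      (D : Fin d → Derivation k (A ⧸ J) (A ⧸ J)),
      IsNilpotent (IsLocalRing.maximalIdeal (A ⧸ J)) ∧
      (∀ i, x i ∈ IsLocalRing.maximalIdeal (A ⧸ J)) ∧
      IsLocalRing.maximalIdeal (A ⧸ J) ≤ Ideal.span (Set.range x) ∧
      (∀ a : A ⧸ J, ∃ c : k, a - algebraMap k _ c ∈ IsLocalRing.maximalIdeal (A ⧸ J)) ∧
      (∀ i j, D i (x j) - (if i = j then 1 else 0) ∈ IsLocalRing.maximalIdeal (A ⧸ J)) := by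
  classical
  set Q := A ⧸ J
  let εQ : Q →ₐ[k] k := Ideal.Quotient.liftₐ J (Bialgebra.counitAlgHom k A) hJ
  have hεQ : ∀ a, εQ (Ideal.Quotient.mk J a) = (Bialgebra.counitAlgHom k A) a := fun a => rfl
  haveI : Nontrivial Q := εQ.toRingHom.domain_nontrivial
  have hiff : ∀ q : Q, IsUnit q ↔ εQ q ≠ 0 := by
    intro q
    refine ⟨fun h => (h.map εQ).ne_zero, fun h => ?_⟩
    obtain ⟨a, rfl⟩ := Ideal.Quotient.mk_surjective q
    exact hunit a h
  haveI hl : IsLocalRing Q := IsLocalRing.of_nonunits_add (fun a b ha hb => by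
    simp only [mem_nonunits_iff, hiff, not_not] at *
    simp [ha, hb])
  have hM : ∀ q : Q, q ∈ IsLocalRing.maximalIdeal Q ↔ εQ q = 0 := fun q => by
    simp [IsLocalRing.mem_maximalIdeal, mem_nonunits_iff, hiff]
  haveI : IsArtinianRing Q := IsArtinianRing.of_finite k Q
  set M := IsLocalRing.maximalIdeal Q
  have hnil : IsNilpotent M := by
    have := IsArtinianRing.isNilpotent_jacobson_bot (R := Q)
    rwa [IsLocalRing.jacobson_eq_maximalIdeal (⊥ : Ideal Q) bot_ne_top] at this
  have hconst : ∀ q : Q, ∃ c : k, q - algebraMap k Q c ∈ M :=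
    fun q => ⟨εQ q, by rw [hM]; simp⟩
  let M2 : Submodule k Q := (M ^ 2).restrictScalars k ⊔ Submodule.span k {1}
  obtain ⟨U, hU⟩ := M2.exists_isCompl
  let u := Module.finBasis k U
  set d := Module.finrank k U
  let x : Fin d → Q := fun i => (u i : Q) - algebraMap k Q (εQ (u i))
  have hM21 : (1 : Q) ∈ M2 := Submodule.mem_sup_right (Submodule.mem_span_singleton_self 1)
  have hc : ∀ c : k, algebraMap k Q c ∈ M2 := fun c => by
    rw [Algebra.algebraMap_eq_smul_one]; exact M2.smul_mem c hM21
  have hxM : ∀ i, x i ∈ M := fun i => by rw [hM]; simp [x]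
  let η : Fin d → Q →ₗ[k] k := fun i => u.coord i ∘ₗ Submodule.projectionOnto U M2 hU.symm
  have hη0 : ∀ i, ∀ q ∈ M2, η i q = 0 := fun i q hq => by
    simp [η, (Submodule.projectionOnto_apply_eq_zero_iff hU.symm).mpr hq]
  have hηx : ∀ i j, η i (x j) = if i = j then 1 else 0 := fun i j => by
    simp only [x, map_sub, hη0 i _ (hc _), sub_zero]
    simp [η, Finsupp.single_apply, eq_comm]
  have hpt : ∀ i, Deriv.IsPt (η i ∘ₗ (Ideal.Quotient.mkₐ k J).toLinearMap) := by
    intro i a b
    simp only [LinearMap.comp_apply, AlgHom.toLinearMap_apply, map_mul, Ideal.Quotient.mkₐ_eq_mk]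
    have hmem : (Ideal.Quotient.mk J a - algebraMap k Q ((Bialgebra.counitAlgHom k A) a)) *
        (Ideal.Quotient.mk J b - algebraMap k Q ((Bialgebra.counitAlgHom k A) b)) ∈ M2 := by
      refine Submodule.mem_sup_left ?_
      rw [Submodule.restrictScalars_mem, sq]
      exact Ideal.mul_mem_mul (by rw [hM]; simp [hεQ]) (by rw [hM]; simp [hεQ])
    have h0 := hη0 i _ hmem
    have : Ideal.Quotient.mk J a * Ideal.Quotient.mk J b =
        (Ideal.Quotient.mk J a - algebraMap k Q ((Bialgebra.counitAlgHom k A) a)) *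
          (Ideal.Quotient.mk J b - algebraMap k Q ((Bialgebra.counitAlgHom k A) b)) +
        ((Bialgebra.counitAlgHom k A) a • Ideal.Quotient.mk J b + (Bialgebra.counitAlgHom k A) b • Ideal.Quotient.mk J a -
          algebraMap k Q ((Bialgebra.counitAlgHom k A) a * (Bialgebra.counitAlgHom k A) b)) := by
      rw [Algebra.smul_def, Algebra.smul_def, map_mul]; ring
    rw [this, map_add, h0, map_sub, map_add, map_smul, map_smul, hη0 i _ (hc _)]
    simp [mul_comm]
  let D0 : Fin d → Derivation k A A := fun i => Deriv.deriv _ (hpt i)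
  have hD0 : ∀ i, ∀ a ∈ J, D0 i a ∈ J := fun i =>
    hstable _ (hpt i) (fun a ha => by simp [Ideal.Quotient.eq_zero_iff_mem.mpr ha])
  let L : Fin d → Q →ₗ[k] Q := fun i =>
    (Submodule.liftQ (J.restrictScalars k)
      ((Ideal.Quotient.mkₐ k J).toLinearMap ∘ₗ (D0 i : A →ₗ[k] A))
      (fun a ha => by
        simpa using Ideal.Quotient.eq_zero_iff_mem.mpr (hD0 i a ha))) ∘ₗ
      (Submodule.Quotient.restrictScalarsEquiv k J).symm.toLinearMap
  have hL : ∀ i a, L i (Ideal.Quotient.mk J a) = Ideal.Quotient.mk J (D0 i a) := fun i a => rfl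
  let D : Fin d → Derivation k Q Q := fun i => Derivation.mk' (L i) (fun p q => by
    obtain ⟨a, rfl⟩ := Ideal.Quotient.mk_surjective p
    obtain ⟨b, rfl⟩ := Ideal.Quotient.mk_surjective q
    rw [← map_mul, hL, hL, hL, (D0 i).leibniz]
    simp)
  refine ⟨hl, d, x, D, hnil, hxM, ?_, hconst, ?_⟩
  · refine Submodule.le_of_le_smul_of_le_jacobson_bot (I := M)
      (IsNoetherian.noetherian _) (IsLocalRing.maximalIdeal_le_jacobson ⊥) ?_
    intro q hq
    obtain ⟨m, hm, v, hv, hsum⟩ := Submodule.mem_sup.mp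
      (hU.sup_eq_top.symm ▸ Submodule.mem_top : q ∈ M2 ⊔ U)
    obtain ⟨m', hm', c, hc', rfl⟩ := Submodule.mem_sup.mp hm
    obtain ⟨c, rfl⟩ := Submodule.mem_span_singleton.mp hc'
    have hv' : v = ∑ i, u.repr ⟨v, hv⟩ i • (u i : Q) := by
      have h := congrArg Subtype.val (u.sum_repr ⟨v, hv⟩)
      rw [AddSubmonoidClass.coe_finsetSum] at h
      exact h.symm
    set C : k := c + ∑ i, u.repr ⟨v, hv⟩ i * εQ (u i)
    have hsum' : q = m' + (algebraMap k Q C + ∑ i, u.repr ⟨v, hv⟩ i • x i) := by
      rw [← hsum]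
      conv_lhs => rw [hv']
      simp only [x, C, smul_sub, Finset.sum_sub_distrib, map_add, map_sum, map_mul,
        Algebra.smul_def, mul_one, mul_sub]
      show _ = m' + (algebraMap k Q c + _ + _)
      ring
    have hC : C = 0 := by
      have h1 := congrArg εQ hsum'
      rw [(hM q).mp hq] at h1
      have hm2 : εQ m' = 0 :=
        (hM _).mp (Ideal.pow_le_self two_ne_zero hm')
      simp only [map_add, map_sum, map_smul, (hM _).mp (hxM _), smul_zero,
        Finset.sum_const_zero, hm2, AlgHom.commutes, Algebra.algebraMap_self, RingHom.id_apply,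
        zero_add, add_zero] at h1
      exact h1.symm
    rw [hsum', hC, map_zero, zero_add, add_comm]
    refine Submodule.add_mem_sup (sum_mem fun i _ => ?_) ?_
    · rw [Algebra.smul_def]
      exact Ideal.mul_mem_left _ _ (Ideal.subset_span (Set.mem_range_self i))
    · rwa [Submodule.restrictScalars_mem, sq, ← smul_eq_mul] at hm'
  · intro i j
    obtain ⟨a, ha⟩ := Ideal.Quotient.mk_surjective (x j)
    rw [hM, ← ha, map_sub]
    have : εQ (D i (Ideal.Quotient.mk J a)) = η i (Ideal.Quotient.mk J a) := by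
      show εQ (L i (Ideal.Quotient.mk J a)) = _
      rw [hL, hεQ]
      exact Deriv.counit_deriv _ (hpt i) a
    rw [this, ha, hηx]
    split <;> simp

/-- the ideal of elements whose `q`-th power vanishes on the component cut out by `e` -/
def jIdeal (e : A) (q : ℕ) (hadd : ∀ a b : A, (a + b) ^ q * e = a ^ q * e + b ^ q * e)
    (hq : q ≠ 0) : Ideal A where
  carrier := {a | a ^ q * e = 0}
  add_mem' {a b} ha hb := by
    simp only [Set.mem_ofPred_eq] at *
    rw [hadd, ha, hb, add_zero]
  zero_mem' := by simp [zero_pow hq]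
  smul_mem' c a ha := by
    simp only [Set.mem_ofPred_eq, smul_eq_mul] at *
    rw [mul_pow, mul_assoc, ha, mul_zero]

/-- the ideal of elements vanishing on the component cut out by `e` -/
def j0 (e : A) : Ideal A := jIdeal e 1 (fun a b => by simp [add_mul]) one_ne_zero

theorem mem_j0 {e a : A} : a ∈ j0 e ↔ a * e = 0 := by
  show a ^ 1 * e = 0 ↔ _
  rw [pow_one]

variable {e₀ : A} (he : IsIdempotentElem e₀) (hε : (Bialgebra.counitAlgHom k A) e₀ = 1)
  (hloc : ∀ a, (Bialgebra.counitAlgHom k A) a ≠ 0 → IsUnit (a * e₀ + (1 - e₀)))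

include he hε in
theorem jIdeal_aug (q : ℕ) (hadd) (hq : q ≠ 0) : ∀ a ∈ jIdeal e₀ q hadd hq, (Bialgebra.counitAlgHom k A) a = 0 := by
  intro a ha
  have h := congrArg (Bialgebra.counitAlgHom k A) (ha : a ^ q * e₀ = 0)
  rw [map_mul, map_pow, hε, mul_one, map_zero] at h
  exact pow_eq_zero_iff hq |>.mp h

include he hloc in
theorem jIdeal_unit (q : ℕ) (hadd) (hq : q ≠ 0) :
    ∀ a, (Bialgebra.counitAlgHom k A) a ≠ 0 → IsUnit (Ideal.Quotient.mk (jIdeal e₀ q hadd hq) a) := by
  intro a ha
  have h := (hloc a ha).map (Ideal.Quotient.mk (jIdeal e₀ q hadd hq))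
  convert h using 1
  rw [Ideal.Quotient.eq]
  show (a - (a * e₀ + (1 - e₀))) ^ q * e₀ = 0
  obtain ⟨n, rfl⟩ := Nat.exists_eq_succ_of_ne_zero hq
  rw [show a - (a * e₀ + (1 - e₀)) = (a - 1) * (1 - e₀) by ring, mul_pow, mul_assoc,
    pow_succ (1 - e₀), mul_assoc, sub_mul, one_mul, he.eq, sub_self, mul_zero, mul_zero]

include he hε hloc in
/-- In characteristic zero the identity component is the point. -/
theorem finrank_eq_one [CharZero k] : Module.finrank k (A ⧸ j0 e₀) = 1 := by
  obtain ⟨hl, d, x, D, hnil, hxM, hgen, hconst, hD⟩ :=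
    exists_system (j0 e₀) (jIdeal_aug he hε 1 _ _) (jIdeal_unit he hloc 1 _ _) (fun ξ h _ a ha => by
      rw [mem_j0] at ha ⊢
      have := congrArg (Deriv.deriv ξ h) ha
      rw [(Deriv.deriv ξ h).leibniz, deriv_idem _ he, smul_zero, zero_add, map_zero, smul_eq_mul]
        at this
      rw [mul_comm]; exact this)
  let Q := A ⧸ j0 e₀
  set N := Module.finrank k (A ⧸ j0 e₀) + 2
  have hli : LinearIndependent k (fun α : Fin d → Fin N => Monomials.mon x α) := by
    rw [Fintype.linearIndependent_iff]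
    intro g hg i
    have := Monomials.eq_zero_of_sum_eq_zero x D hxM hD (fun n hn _ => by
        rw [IsLocalRing.mem_maximalIdeal, mem_nonunits_iff, not_not]
        simpa using (Ne.isUnit (show (n : k) ≠ 0 by exact_mod_cast hn.ne')).map (algebraMap k Q))
      (fun α => algebraMap k Q (g α)) (fun j α => (D j).map_algebraMap _)
      (by simpa [Algebra.smul_def] using hg)
    simpa using congrFun this i
  have hd : d = 0 := by
    by_contra hd
    have := hli.fintype_card_le_finrank
    rw [Fintype.card_fun, Fintype.card_fin, Fintype.card_fin] at this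
    have h2 : N ≤ N ^ d := Nat.le_self_pow hd N
    omega
  subst hd
  haveI : Nontrivial Q := inferInstance
  refine finrank_eq_one_iff'.mpr ⟨1, one_ne_zero, fun q => ?_⟩
  obtain ⟨c, hc⟩ := hconst q
  have := hgen hc
  simp only [Set.range_eq_empty, Ideal.span_empty, Ideal.mem_bot, sub_eq_zero] at this
  exact ⟨c, by rw [this, Algebra.algebraMap_eq_smul_one]⟩

section CharP

variable (p : ℕ) [hp : Fact p.Prime] [CharP k p] [PerfectRing k p]

omit [Module.Finite k A] [PerfectRing k p] in
theorem charP_alg {B : Type*} [Ring B] [Nontrivial B] [Algebra k B] : CharP B p :=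
  (RingHom.charP_iff (algebraMap k B) (algebraMap k B).injective p).mp ‹_›

omit [Module.Finite k A] [PerfectRing k p] in
include k p in
theorem add_pow_e (e : A) (n : ℕ) (a b : A) :
    (a + b) ^ p ^ n * e = a ^ p ^ n * e + b ^ p ^ n * e := by
  nontriviality A
  haveI := charP_alg (k := k) p (B := A)
  rw [add_pow_char_pow, add_mul]

/-- `{a | a ^ (p ^ n) * e₀ = 0}` -/
def jp (k : Type*) [Field k] [Bialgebra k A] [CharP k p] (e : A) (n : ℕ) : Ideal A :=
  jIdeal e (p ^ n) (add_pow_e (k := k) p e n) (pow_ne_zero _ hp.out.ne_zero)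

theorem mem_jp {e a : A} {n : ℕ} : a ∈ jp p k e n ↔ a ^ p ^ n * e = 0 := Iff.rfl

include he hε hloc in
theorem step (n : ℕ) :
    ∃ d : ℕ, Module.finrank k (A ⧸ jp p k e₀ n) = p ^ d * Module.finrank k (A ⧸ jp p k e₀ (n + 1)) ∧
      (d = 0 → Module.finrank k (A ⧸ jp p k e₀ n) = 1) := by
  classical
  have hidem : ∀ m : ℕ, e₀ ^ p ^ m = e₀ := fun m => by
    obtain ⟨j, hj⟩ := Nat.exists_eq_succ_of_ne_zero (pow_ne_zero m hp.out.ne_zero)
    rw [hj, he.pow_succ_eq]
  obtain ⟨hl, d, x, D, hnil, hxM, hgen, hconst, hD⟩ :=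
    exists_system (jp p k e₀ n) (jIdeal_aug he hε _ _ _) (jIdeal_unit he hloc _ _ _)
      (fun ξ h hξ a ha => by
        have hae : a * e₀ ∈ Deriv.frobKer (k := k) p n := by
          rw [Deriv.mem_frobKer, mul_pow, hidem]; exact ha
        have hk := Deriv.deriv_mem_frobKer p ξ h n (fun b hb => hξ b (by
          rw [mem_jp, (Deriv.mem_frobKer p).mp hb, zero_mul])) hae
        rw [(Deriv.deriv ξ h).leibniz, deriv_idem _ he, smul_zero, zero_add, smul_eq_mul,
          Deriv.mem_frobKer, mul_pow, hidem, mul_comm] at hk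
        exact hk)
  let Q := A ⧸ jp p k e₀ n
  haveI : CharP Q p := charP_alg (k := k) p
  let S : Subalgebra k Q :=
    { __ := (frobenius Q p).range.toSubsemiring
      algebraMap_mem' := fun c => by
        obtain ⟨b, rfl⟩ := (bijective_frobenius k p).2 c
        exact ⟨algebraMap k Q b, ((algebraMap k Q).map_frobenius p b).symm⟩ }
  have hS : ∀ s : S, ∃ b : Q, b ^ p = (s : Q) := fun s => s.2
  have hxS : ∀ i, x i ^ p ∈ S := fun i => ⟨x i, rfl⟩
  have hDS : ∀ i (s : S), D i (s : Q) = 0 := fun i s => by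
    obtain ⟨b, hb⟩ := hS s
    rw [← hb, (D i).leibniz_pow]
    simp
  have hspan := Monomials.span_mon_eq_top S _ hp.out.pos x hnil hxM hgen hconst hxS
  have hli : LinearIndependent S (fun α : Fin d → Fin p => Monomials.mon x α) := by
    rw [Fintype.linearIndependent_iff]
    intro g hg i
    have := Monomials.eq_zero_of_sum_eq_zero x D hxM hD (fun m hm hmp => by
        rw [IsLocalRing.mem_maximalIdeal, mem_nonunits_iff, not_not]
        have : (m : k) ≠ 0 := fun h0 => by
          have := Nat.le_of_dvd hm ((CharP.cast_eq_zero_iff k p m).mp h0)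
          omega
        simpa using (Ne.isUnit this).map (algebraMap k Q))
      (fun α => (g α : Q)) (fun j α => hDS j (g α))
      (by simpa [Subalgebra.smul_def] using hg)
    exact Subtype.ext (congrFun this i)
  let b := Module.Basis.mk hli hspan.ge
  haveI : Module.Free S Q := Module.Free.of_basis b
  have hfin : Module.finrank k Q = p ^ d * Module.finrank k S := by
    rw [← Module.finrank_mul_finrank k S Q, Module.finrank_eq_card_basis b, Fintype.card_fun,
      Fintype.card_fin, Fintype.card_fin, mul_comm]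
  let g : A →+* Q := (frobenius Q p).comp (Ideal.Quotient.mk _)
  have hker : ∀ a, a ∈ jp p k e₀ (n + 1) ↔ g a = 0 := fun a => by
    simp only [g, RingHom.comp_apply, frobenius_def]
    rw [← map_pow, Ideal.Quotient.eq_zero_iff_mem, mem_jp, mem_jp, ← pow_mul, ← pow_succ']
  let g' : A ⧸ jp p k e₀ (n + 1) →+* Q := Ideal.Quotient.lift _ g fun a ha => (hker a).mp ha
  let j : A ⧸ jp p k e₀ (n + 1) →+ S :=
    AddMonoidHom.mk' (fun a => ⟨g' a, by
      obtain ⟨a, rfl⟩ := Ideal.Quotient.mk_surjective a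
      exact ⟨Ideal.Quotient.mk _ a, rfl⟩⟩) (fun a b => Subtype.ext (map_add g' a b))
  have hj : Function.Bijective j := by
    constructor
    · intro a b hab
      have h : g' a = g' b := congrArg Subtype.val hab
      obtain ⟨a, rfl⟩ := Ideal.Quotient.mk_surjective a
      obtain ⟨b, rfl⟩ := Ideal.Quotient.mk_surjective b
      rw [Ideal.Quotient.eq, hker, map_sub]
      simpa [g', sub_eq_zero] using h
    · intro s
      obtain ⟨q, hq⟩ := hS s
      obtain ⟨a, rfl⟩ := Ideal.Quotient.mk_surjective q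
      exact ⟨Ideal.Quotient.mk _ a, Subtype.ext hq⟩
  have hrk := rank_eq_of_equiv_equiv (frobenius k p) (AddEquiv.ofBijective j hj)
    (bijective_frobenius k p) (fun r a => by
      obtain ⟨a, rfl⟩ := Ideal.Quotient.mk_surjective a
      apply Subtype.ext
      change g' (r • Ideal.Quotient.mk _ a) = frobenius k p r • g' (Ideal.Quotient.mk _ a)
      rw [Algebra.smul_def, Algebra.smul_def, map_mul]
      congr 1
      show g (algebraMap k A r) = _
      simp only [g, RingHom.comp_apply, frobenius_def, map_pow]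
      rfl)
  have hfin2 : Module.finrank k (A ⧸ jp p k e₀ (n + 1)) = Module.finrank k S :=
    congrArg Cardinal.toNat hrk
  refine ⟨d, by rw [hfin, hfin2], fun hd => ?_⟩
  subst hd
  refine finrank_eq_one_iff'.mpr ⟨1, one_ne_zero, fun q => ?_⟩
  obtain ⟨c, hc⟩ := hconst q
  have := hgen hc
  simp only [Set.range_eq_empty, Ideal.span_empty, Ideal.mem_bot, sub_eq_zero] at this
  exact ⟨c, by rw [this, Algebra.algebraMap_eq_smul_one]⟩

include he hε hloc in
theorem finrank_jp (n : ℕ) : ∃ v, Module.finrank k (A ⧸ jp p k e₀ n) = p ^ v := by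
  induction h : Module.finrank k (A ⧸ jp p k e₀ n) using Nat.strong_induction_on generalizing n with
  | h m ih =>
    obtain ⟨d, hd, hd0⟩ := step he hε hloc p n
    rcases Nat.eq_zero_or_pos d with rfl | hdpos
    · exact ⟨0, by rw [← h, hd0 rfl, pow_zero]⟩
    · have hne : jp p k e₀ (n + 1) ≠ ⊤ := fun ht => by
        have := jIdeal_aug he hε _ (add_pow_e (k := k) p e₀ (n + 1))
          (pow_ne_zero _ hp.out.ne_zero) 1 (by show (1 : A) ∈ jp p k e₀ (n + 1); rw [ht]; trivial)
        simp at this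
      haveI := Ideal.Quotient.nontrivial_iff.mpr hne
      have hpos : 0 < Module.finrank k (A ⧸ jp p k e₀ (n + 1)) := Module.finrank_pos
      have hlt : Module.finrank k (A ⧸ jp p k e₀ (n + 1)) < m := by
        rw [← h, hd]
        exact lt_mul_of_one_lt_left hpos (Nat.one_lt_pow hdpos.ne' hp.out.one_lt)
      obtain ⟨v, hv⟩ := ih _ hlt (n + 1) rfl
      exact ⟨d + v, by rw [← h, hd, hv, pow_add]⟩

include he hε hloc in
theorem finrank_pow : ∃ v, Module.finrank k (A ⧸ j0 e₀) = p ^ v := by
  have : j0 e₀ = jp p k e₀ 0 := by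
    ext a
    rw [mem_j0, mem_jp, pow_zero, pow_one]
  rw [this]
  exact finrank_jp he hε hloc p 0

end CharP

end Groth.Agent.FiniteGrp.Local
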